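import Mathlib

/-!
Transfer computed with an arbitrary section, and its decomposition along the orbits of a subgroup
`P` on `G ⧸ H` (Mackey formula for the transfer).
-/

namespace Cfsg.Agent.Lib.TransferOrbit

open MulAction Subgroup

variable {G : Type*} [Group G] {H : Subgroup G} {A : Type*} [CommGroup A] (φ : H →* A)

theorem section_mem (t : G ⧸ H → G) (ht : ∀ q, (t q : G ⧸ H) = q) (g : G) (q : G ⧸ H) :
    (t (g • q))⁻¹ * (g * t q) ∈ H := by
  rw [← QuotientGroup.eq, ht, ← smul_eq_mul g, ← MulAction.Quotient.smul_coe, ht]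

theorem transfer_eq_prod_section [H.FiniteIndex] [Fintype (G ⧸ H)] (t : G ⧸ H → G)
    (ht : ∀ q, (t q : G ⧸ H) = q) (g : G) :
    MonoidHom.transfer φ g = ∏ q : G ⧸ H, φ ⟨(t (g • q))⁻¹ * (g * t q), section_mem t ht g q⟩ := by
  let T : H.LeftTransversal := ⟨Set.range t, isComplement_range_left ht⟩
  rw [MonoidHom.transfer_def φ T g, leftTransversals.diff]
  rw [Subsingleton.elim (H.fintypeQuotientOfFiniteIndex) ‹Fintype (G ⧸ H)›]
  symm
  refine Fintype.prod_equiv (MulAction.toPerm g) _ _ fun q => congrArg φ (Subtype.ext ?_)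
  simp only [MulAction.toPerm_apply]
  rw [smul_apply_eq_smul_apply_inv_smul, inv_smul_smul, smul_eq_mul,
    IsComplement.leftQuotientEquiv_apply ht, IsComplement.leftQuotientEquiv_apply ht]

/-- The homomorphism `s ↦ φ (y⁻¹ s y)` on the stabiliser in `P` of the coset of `y`. -/
noncomputable def orbitHom (P : Subgroup G) (a : G ⧸ H) : stabilizer P a →* A where
  toFun s := φ ⟨a.out⁻¹ * (s : G) * a.out, by
    have h : ((s : G) * a.out : G ⧸ H) = (a.out : G ⧸ H) := by
      conv_rhs => rw [QuotientGroup.out_eq']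
      rw [← smul_eq_mul, ← MulAction.Quotient.smul_coe, QuotientGroup.out_eq']
      exact s.2
    rw [mul_assoc, ← QuotientGroup.eq]
    exact h.symm⟩
  map_one' := by
    rw [← map_one φ]; congr 1; apply Subtype.ext; simp
  map_mul' s t := by
    rw [← map_mul]; congr 1; apply Subtype.ext
    simp only [Subgroup.coe_mul]
    group

theorem orbitHom_apply (P : Subgroup G) (a : G ⧸ H) (s : stabilizer P a)
    (h : a.out⁻¹ * (s : G) * a.out ∈ H) : orbitHom φ P a s = φ ⟨_, h⟩ := rfl

/-- The transfer at `x ∈ P` is the product over the `P`-orbits of the transfers `P → stabilizer`. -/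
theorem transfer_eq_prod_orbits [Finite G] (P : Subgroup G) (x : P)
    [Fintype (orbitRel.Quotient P (G ⧸ H))] :
    MonoidHom.transfer φ (x : G) =
      ∏ ω : orbitRel.Quotient P (G ⧸ H), MonoidHom.transfer (orbitHom φ P ω.out) x := by
  classical
  haveI := Fintype.ofFinite (G ⧸ H)
  haveI : ∀ ω : orbitRel.Quotient P (G ⧸ H), Fintype (P ⧸ stabilizer P ω.out) := fun ω => Fintype.ofFinite _
  obtain ⟨e, he⟩ : ∃ e : G ⧸ H ≃ (ω : orbitRel.Quotient P (G ⧸ H)) × P ⧸ stabilizer P ω.out,
      ∀ ω q, e.symm ⟨ω, q⟩ = q.out • ω.out := by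
    refine ⟨selfEquivSigmaOrbitsQuotientStabilizer P (G ⧸ H), fun ω q => ?_⟩
    conv_lhs => rw [← QuotientGroup.out_eq' q]
    rfl
  have hsmul : ∀ (ω : orbitRel.Quotient P (G ⧸ H)) (q : P ⧸ stabilizer P ω.out),
      (x : G) • e.symm ⟨ω, q⟩ = e.symm ⟨ω, x • q⟩ := by
    intro ω q
    rw [he, he]
    obtain ⟨s, hs⟩ := QuotientGroup.mk_out_eq_mul (stabilizer P ω.out) (x * q.out)
    have hq : x • q = ((x * q.out : P) : P ⧸ stabilizer P ω.out) := by
      conv_lhs => rw [← QuotientGroup.out_eq' q]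
      rfl
    rw [hq, hs, mul_smul, mul_smul, s.2]
    rfl
  let t : G ⧸ H → G := fun q => ((e q).2.out : G) * (e q).1.out.out
  have ht : ∀ q, (t q : G ⧸ H) = q := by
    intro q
    have key : ∀ (a : G ⧸ H) (g : G), ((g * a.out : G) : G ⧸ H) = g • a := by
      intro a g
      conv_rhs => rw [← QuotientGroup.out_eq' a]
      rfl
    exact (key _ _).trans ((he (e q).1 (e q).2).symm.trans (e.symm_apply_apply q))
  rw [transfer_eq_prod_section φ t ht, ← e.symm.prod_comp, Fintype.prod_sigma]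
  refine Finset.prod_congr rfl fun ω _ => ?_
  rw [transfer_eq_prod_section (orbitHom φ P ω.out) Quotient.out QuotientGroup.out_eq']
  refine Finset.prod_congr rfl fun q _ => congrArg φ (Subtype.ext ?_)
  have key : ∀ z, t (e.symm z) = (z.2.out : G) * z.1.out.out := fun z =>
    congrArg (fun z : (ω : orbitRel.Quotient P (G ⧸ H)) × P ⧸ stabilizer P ω.out =>
      (z.2.out : G) * z.1.out.out) (e.apply_symm_apply z)
  simp only [hsmul, key, Subgroup.coe_mul, Subgroup.coe_inv]
  simp only [mul_inv_rev, mul_assoc]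

/-- A transfer into a group where `λ` only depends on the image in an abelian group `B`. -/
theorem transfer_eq_of_abelian [H.FiniteIndex] {B : Type*} [CommGroup B] (π : G →* B)
    (hker : ∀ h : H, π h = 1 → φ h = 1) (x : G) (hx : x ^ H.index ∈ H) :
    MonoidHom.transfer φ x = φ ⟨x ^ H.index, hx⟩ := by
  classical
  haveI := H.fintypeQuotientOfFiniteIndex
  rw [transfer_eq_prod_section φ Quotient.out QuotientGroup.out_eq']
  have key : ∀ F : Finset (G ⧸ H), ∃ s : H,
      φ s = ∏ q ∈ F, φ ⟨((x • q).out)⁻¹ * (x * q.out), section_mem _ QuotientGroup.out_eq' x q⟩ ∧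
      π s = ∏ q ∈ F, (π (x • q).out)⁻¹ * (π x * π q.out) := by
    intro F
    induction F using Finset.induction with
    | empty => exact ⟨1, by simp, by simp⟩
    | insert a F ha ih =>
      obtain ⟨s, h1, h2⟩ := ih
      refine ⟨⟨_, section_mem _ QuotientGroup.out_eq' x a⟩ * s, ?_, ?_⟩
      · rw [map_mul, h1, Finset.prod_insert ha]
      · rw [Subgroup.coe_mul, map_mul, h2, Finset.prod_insert ha]
        simp
  obtain ⟨s, h1, h2⟩ := key Finset.univ
  rw [← h1]
  have h3 : π s = π (x ^ H.index) := by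
    rw [h2, Finset.prod_mul_distrib, Finset.prod_mul_distrib, Finset.prod_const, Finset.prod_inv_distrib]
    have : ∏ q : G ⧸ H, π (x • q).out = ∏ q : G ⧸ H, π q.out :=
      Equiv.prod_comp (MulAction.toPerm x) (fun q : G ⧸ H => π q.out)
    rw [this, Finset.card_univ, ← Nat.card_eq_fintype_card, ← Subgroup.index_eq_card, map_pow]
    rw [mul_comm (π x ^ H.index), inv_mul_cancel_left]
  refine mul_inv_eq_one.mp ?_
  rw [← map_inv, ← map_mul]
  refine hker _ ?_
  rw [Subgroup.coe_mul, Subgroup.coe_inv, map_mul, map_inv, h3, mul_inv_cancel]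

theorem transfer_of_eq_top [H.FiniteIndex] (hH : H = ⊤) (x : G) :
    MonoidHom.transfer φ x = φ ⟨x, hH ▸ Subgroup.mem_top x⟩ := by
  classical
  haveI := H.fintypeQuotientOfFiniteIndex
  haveI : Subsingleton (G ⧸ H) := by subst hH; exact QuotientGroup.subsingleton_quotient_top
  rw [transfer_eq_prod_section φ (fun _ => (1 : G)) (fun q => Subsingleton.elim _ _)]
  rw [Fintype.prod_eq_single ((1 : G) : G ⧸ H) (fun q hq => absurd (Subsingleton.elim q _) hq)]
  congr 1
  apply Subtype.ext
  simp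

/-- In a `p`-group, the index power of any element lies in the subgroup. -/
theorem pow_index_mem_of_isPGroup [Finite G] {p : ℕ} [hp : Fact p.Prime] (hG : IsPGroup p G)
    (S : Subgroup G) (x : G) : x ^ S.index ∈ S := by
  set r := Function.minimalPeriod (x • ·) ((1 : G) : G ⧸ S) with hr
  have hmem : x ^ r ∈ S := by
    have h := Function.isPeriodicPt_minimalPeriod (x • ·) ((1 : G) : G ⧸ S)
    rw [Function.IsPeriodicPt, Function.IsFixedPt, smul_iterate, ← hr] at h
    have h' : ((x ^ r * 1 : G) : G ⧸ S) = ((1 : G) : G ⧸ S) := h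
    rw [mul_one, QuotientGroup.eq, mul_one] at h'
    exact inv_mem_iff.mp h'
  have hcard : r = Nat.card (orbit (Subgroup.zpowers x) ((1 : G) : G ⧸ S)) := by
    rw [hr]
    exact ((Nat.card_congr (MulAction.orbitZPowersEquiv x ((1 : G) : G ⧸ S))).trans (Nat.card_zmod _)).symm
  obtain ⟨a, ha⟩ := (hG.to_subgroup (Subgroup.zpowers x)).card_orbit ((1 : G) : G ⧸ S)
  obtain ⟨b, hb⟩ := hG.index S
  have hle : r ≤ S.index := hcard ▸ Finite.card_subtype_le _
  have hdvd : r ∣ S.index := by
    rw [hcard, ha, hb] at hle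
    rw [hcard, ha, hb]
    exact pow_dvd_pow p ((Nat.pow_le_pow_iff_right hp.out.one_lt).mp hle)
  obtain ⟨c, hc⟩ := hdvd
  rw [hc, pow_mul]
  exact S.pow_mem hmem c

end Cfsg.Agent.Lib.TransferOrbit
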